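import Groth.Agent.H19Unip.Perfect
import Groth.Agent.H21Split.Red0.IsoBase
import Groth.Agent.H20Red.Iso
import Groth.Agent.H20Conj.MaxConv

/-!
Splittings along a given maximal torus over an algebraically closed field; Weyl invariant characters.
-/

set_option autoImplicit false
set_option backward.isDefEq.respectTransparency false
set_option linter.style.haveILetI false
set_option linter.unusedSectionVars false
set_option synthInstance.maxHeartbeats 400000
set_option maxHeartbeats 2000000

universe u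

open CategoryTheory MonoidalCategory CartesianMonoidalCategory MonObj GrpObj AlgebraicGeometry CategoryTheory.Limits
open Groth.Agent Groth.Agent.H27Witt H20Mu H20Conj H20Borel Groth.Agent.H21Split

namespace H19Unip

noncomputable section

variable {k : Type u} [Field k] [IsAlgClosed k] {G : Over (Sk k)} [GrpObj G]

/-- over an algebraically closed field a reductive group scheme is a reductive group -/
theorem isReductiveOver_of_isReductive (hG : Red.IsReductive G) : Red.IsReductiveOver k G := by
  obtain ⟨s⟩ : Nonempty ↥(Sk k) := inferInstance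
  haveI := H20Conj.isIso_geomPt s
  have h := H21Red0.isReductiveOver_bc (inv (Red.geomPt s)) (hG.2.2 s)
  haveI : IsMonHom (H21Red0.bcForth (Red.geomPt s) G).symm.hom := inferInstanceAs (IsMonHom (H21Red0.bcForth (Red.geomPt s) G).inv)
  exact H20Red.isReductiveOver_of_iso k (H21Red0.bcForth (Red.geomPt s) G).symm h

/-- a splitting along a given maximal torus -/
theorem exists_splitRed_of_isMaximalTorus (hG : Red.IsReductive G) {T : Over (Sk k)} [GrpObj T] {iT : T ⟶ G}
    (hT : Red.IsMaximalTorus iT) : ∃ (D : Red.SplitRed G) (σ : D.T ≅ T), IsMonHom σ.hom ∧ σ.hom ≫ iT = D.i := by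
  have h := isReductiveOver_of_isReductive hG
  haveI := h.1; haveI := h.2.1; haveI := h.2.2.1
  exact H21RootEx.exists_splitRed h (H20Conj.isMaxTorus_of_isMaximalTorus hT)

/-- a character of the torus invariant under conjugation by normalising points kills the coroots -/
theorem exists_orth_of_invariant (D : Red.SplitRed G) {T : Over (Sk k)} [GrpObj T] (iT : T ⟶ G) [Mono iT]
    (σ : D.T ≅ T) [IsMonHom σ.hom] (hσ : σ.hom ≫ iT = D.i) (χ : T ⟶ Red.Gm (Sk k)) [IsMonHom χ]
    (hχ : ∀ (n : 𝟙_ (Over (Sk k)) ⟶ G) (φ : T ⟶ T), φ ≫ iT = AGF.conjBy n iT → φ ≫ χ = χ) :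
    ∃ m : D.M, σ.hom ≫ χ = D.split.hom.hom.hom ≫ Red.chi (Sk k) m ∧ ∀ a, D.P.coroot a m = 0 := by
  haveI := D.finiteM
  obtain ⟨m, hm⟩ := H21RootEx.exists_chi (e := D.split) (σ.hom ≫ χ)
  refine ⟨m, hm, fun a => ?_⟩
  obtain ⟨n, hn⟩ := D.refl a
  let r := (D.P.reflection a).toLinearMap.toAddMonoidHom
  let φ₀ : D.T ⟶ D.T := D.split.hom.hom.hom ≫ Red.DSmap (Sk k) r ≫ D.split.inv.hom.hom
  have hφ : (σ.inv ≫ φ₀ ≫ σ.hom) ≫ iT = AGF.conjBy n iT := by
    have h1 := congrArg (σ.inv ≫ ·) (hn D.T (𝟙 _))
    simp only [MonObj.comp_mul, GrpObj.comp_inv, Category.id_comp, ← Category.assoc σ.inv (toUnit D.T) n,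
      toUnit_unique (σ.inv ≫ toUnit D.T) (toUnit T)] at h1
    rw [show σ.inv ≫ D.i = iT by rw [← hσ, σ.inv_hom_id_assoc]] at h1
    simp only [φ₀, Category.assoc, hσ]
    exact h1.symm
  have h2 := congrArg (σ.hom ≫ ·) (hχ n _ hφ)
  simp only [Category.assoc, σ.hom_inv_id_assoc, hm, φ₀] at h2
  rw [← Category.assoc D.split.inv.hom.hom, split_inv_hom, Category.id_comp, Red.chi, R2.DSmap_comp] at h2
  haveI : IsIso D.split.hom.hom.hom := ⟨D.split.inv.hom.hom, split_hom_inv D, split_inv_hom D⟩
  have h3 := DFunLike.congr_fun (H21Red0.DSmap_inj ((cancel_epi _).mp h2)) 1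
  have h4 : D.P.reflection a m = m := by simpa [r] using h3
  rw [RootPairing.reflection_apply, sub_eq_self] at h4
  haveI := D.freeM
  haveI : IsAddTorsionFree D.M := .of_isTorsionFree ℤ D.M
  have h5 := (smul_eq_zero.mp h4).resolve_right (D.P.ne_zero a)
  rw [coroot_apply]
  exact h5

end

end H19Unip
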