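import Groth.Agent.S3901
import Groth.Agent.H20Borel.CartanChar
import Groth.Agent.H20Borel.Sections
import Groth.Agent.H21Split.Gen.Main
import Groth.Agent.H21Split.R2.ChevExist
import Groth.Agent.H21Split.Red0.IsoBase
import Groth.Agent.H21Diag.Chev.RelSelfCentral
import Groth.Agent.H21Diag.MaxTorusBc
import Groth.Agent.H21Diag.CentralMaxTorus
import Groth.Agent.H19Quot.AbelianCat
import Groth.Agent.H19SemiAb.Basic
import Groth.Agent.H19Unip.SplitAlg
import Groth.Agent.H21Diag.CentrePiece
import Groth.Agent.LeadTorus.General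
import Groth.Agent.H19Fin.BorelConj
import Groth.Agent.H25AbCube.GeomTate

/-!
Maximal tori under central isogenies.
-/

set_option autoImplicit false
set_option backward.isDefEq.respectTransparency false
set_option linter.style.haveILetI false
set_option linter.unusedSectionVars false
set_option synthInstance.maxHeartbeats 400000
set_option maxHeartbeats 4000000

universe u

open CategoryTheory MonoidalCategory CartesianMonoidalCategory MonObj GrpObj AlgebraicGeometry CategoryTheory.Limits
open Groth.Agent Groth.Agent.H27Witt H20Mu H20Conj H20Borel H21Chev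

namespace H19Unip

noncomputable section

/-- points killed by `f` are central -/
def KerCentral {S : Scheme.{u}} {G' G : Over S} [GrpObj G'] [GrpObj G] (f : G' ⟶ G) : Prop :=
  ∀ {X : Over S} (x h : X ⟶ G'), x ≫ f = 1 → x * h = h * x

theorem kerCentral_bc {S S' : Scheme.{u}} (v : S' ⟶ S) {G' G : Over S} [GrpObj G'] [GrpObj G] (f : G' ⟶ G) (hc : KerCentral f) :
    KerCentral ((Over.pullback v).map f : Red.bc v G' ⟶ Red.bc v G) := fun {X} x h hx => by
  refine (H21Diag.bcEquiv v G' X).symm.injective ?_
  rw [H21Diag.bcEquiv_symm_mul, H21Diag.bcEquiv_symm_mul]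
  refine hc _ _ ?_
  rw [← H21Diag.bcEquiv_symm_comp_map, hx]
  exact map_one (H21Diag.bcHom v G X)

variable {k : Type u} [Field k] {G' G : Over (Sk k)} [GrpObj G'] [GrpObj G] (f : G' ⟶ G) [IsMonHom f]

/-- the square of a maximal torus and its image is cartesian -/
theorem isPullback_of_surjective (hc : KerCentral f) (hG' : Red.IsReductive G') {S : Over (Sk k)} [GrpObj S]
    {j : S ⟶ G'} (hS : Red.IsMaximalTorus j) {T : Over (Sk k)} {i : T ⟶ G} [Mono i] (p : S ⟶ T) [Flat p.left]
    [Surjective p.left] [QuasiCompact p.left] (hp : p ≫ i = j ≫ f) : IsPullback j p f i := by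
  haveI := hS.1; haveI := hS.2.1
  refine IsPullback.mk' hp.symm (fun X φ φ' h1 _ => (cancel_mono j).mp h1) fun X x c hxc => ?_
  let X' : Over (Sk k) := Over.mk (pullback.fst c.left p.left ≫ X.hom)
  let q : X' ⟶ X := Over.homMk (pullback.fst c.left p.left) rfl
  let s : X' ⟶ S := Over.homMk (pullback.snd c.left p.left) (by
    show pullback.snd c.left p.left ≫ S.hom = pullback.fst c.left p.left ≫ X.hom
    rw [← Over.w p, ← pullback.condition_assoc, Over.w])
  haveI : Flat q.left := inferInstanceAs (Flat (pullback.fst c.left p.left))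
  haveI : Surjective q.left := inferInstanceAs (Surjective (pullback.fst c.left p.left))
  haveI : QuasiCompact q.left := inferInstanceAs (QuasiCompact (pullback.fst c.left p.left))
  have hsq : s ≫ p = q ≫ c := Over.OverMorphism.ext pullback.condition.symm
  have hker : ((q ≫ x) * (s ≫ j)⁻¹) ≫ f = 1 := by
    rw [MonObj.mul_comp, GrpObj.inv_comp, Category.assoc, Category.assoc, ← hp, ← Category.assoc s, hsq, hxc,
      Category.assoc, mul_inv_cancel]
  obtain ⟨z, hz⟩ := ((H21Chev.isCentralizerOf_self_of_isMaximalTorus hG' hS).2.2 X' _).mpr fun X'' y t =>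
    hc (y ≫ ((q ≫ x) * (s ≫ j)⁻¹)) (t ≫ j) (by rw [Category.assoc, hker, MonObj.comp_one])
  obtain ⟨l, hl⟩ := H21Split.Gen.exists_lift_flat q j x (z * s) (by
    rw [MonObj.mul_comp, hz, inv_mul_cancel_right])
  exact ⟨l, hl, (cancel_mono i).mp (by rw [Category.assoc, hp, ← Category.assoc, hl, hxc])⟩

/-- the image of a maximal torus under a surjective homomorphism -/
theorem exists_image_maxTorus [IsAffine G.left] [Smooth G.hom] [IsAffine G'.left] [Smooth G'.hom]
    [ConnectedSpace G'.left] [Surjective f.left] {S : Over (Sk k)} [GrpObj S] {j : S ⟶ G'} (hS : Red.IsMaximalTorus j) :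
    ∃ (T : Over (Sk k)) (_ : GrpObj T) (i : T ⟶ G) (p : S ⟶ T), Red.IsMaximalTorus i ∧ p ≫ i = j ≫ f ∧
      Flat p.left ∧ Surjective p.left ∧ QuasiCompact p.left := by
  haveI := hS.1; haveI := hS.2.1
  let K := AlgebraicClosure k
  haveI : IsClosedImmersion j.left := H19Fin.isClosedImmersion_torus_field (K := K) j hS.2.2.1
  haveI : IsAffine S.left := isAffine_of_isAffineHom j.left
  haveI : LocallyOfFiniteType G'.hom := inferInstance
  haveI : QuasiCompact G'.hom := inferInstance
  haveI : LocallyOfFiniteType S.hom := by rw [← Over.w j]; infer_instance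
  haveI : QuasiCompact S.hom := inferInstance
  haveI : LocallyOfFiniteType G.hom := inferInstance
  haveI : QuasiCompact G.hom := inferInstance
  obtain ⟨C, gC, p, i, hp, hi, hpi, hfl, hsur, hlfp, hci⟩ :=
    H19Quot.AbelianCat.exists_image (j ≫ f) ⟨inferInstance, inferInstance⟩ ⟨inferInstance, inferInstance⟩
  letI := gC
  haveI := hp; haveI := hi; haveI := hfl; haveI := hsur; haveI := hci; haveI := hlfp
  haveI : IsAffine C.left := isAffine_of_isAffineHom i.left
  haveI : Mono i := Over.mono_of_mono_left _
  let v := H25AbCube.GeomTate.σ k K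
  haveI := H25AbCube.GeomTate.surjective_σ k K
  have hGa : IsAffineHom G'.hom := inferInstance
  have hSK := H20Conj.isMaxTorus_of_isMaximalTorus (H21Diag.isMaximalTorus_bc inferInstance hGa j v hS)
  obtain ⟨-, hSs, -⟩ := H20Borel.torus_props (Red.bc v S) hSK.2.2.1
  haveI := hSs
  haveI : IsAffine (Red.bc v G').left := H20Borel.isAffine_bc v G'
  haveI : Smooth (Red.bc v G').hom := H20Borel.smooth_bc v G'
  haveI : IsAffine (Red.bc v G).left := H20Borel.isAffine_bc v G
  haveI : Smooth (Red.bc v G).hom := H20Borel.smooth_bc v G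
  haveI : LocallyOfFiniteType (Red.bc v C).hom := by
    haveI : LocallyOfFiniteType C.hom := by rw [← Over.w i]; infer_instance
    exact inferInstanceAs (LocallyOfFiniteType (pullback.snd C.hom v))
  let iK : Red.bc v C ⟶ Red.bc v G := (Over.pullback v).map i
  let pK : Red.bc v S ⟶ Red.bc v C := (Over.pullback v).map p
  haveI : IsMonHom iK := H21Diag.isMonHom_bcMap v i
  haveI : IsClosedImmersion iK.left := MorphismProperty.baseChange_map v i hci
  haveI : Surjective pK.left := MorphismProperty.baseChange_map v p hsur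
  haveI : Flat pK.left := MorphismProperty.baseChange_map v p hfl
  haveI : LocallyOfFinitePresentation pK.left := MorphismProperty.baseChange_map v p hlfp
  haveI : IsMonHom ((Over.pullback v).map f : Red.bc v G' ⟶ Red.bc v G) := H21Diag.isMonHom_bcMap v f
  haveI : Surjective ((Over.pullback v).map f : Red.bc v G' ⟶ Red.bc v G).left :=
    MorphismProperty.baseChange_map v f inferInstance
  haveI : Smooth (Red.bc v C).hom := H13Flat.smooth_of_fppf_covering _ fun x =>
    ⟨(Red.bc v S).left, pK.left, inferInstance, inferInstance, pK.left.surjective x, by rw [Over.w]; infer_instance⟩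
  haveI : AlgebraicGeometry.IsReduced (Red.bc v C).left := H13AlgSp.isReduced_of_smooth_mor (Red.bc v C).hom
  haveI : ConnectedSpace (Red.bc v G').left := by
    haveI := H19Grp.geometricallyIrreducible_of_connectedSpace_group G'
    haveI : IrreducibleSpace ↥(pullback G'.hom v) :=
      GeometricallyIrreducible.geometrically_irreducibleSpace _ _ _ (IsPullback.of_hasPullback G'.hom v)
    exact inferInstanceAs (ConnectedSpace ↥(pullback G'.hom v))
  haveI : ConnectedSpace (Red.bc v G).left := ((Over.pullback v).map f : Red.bc v G' ⟶ Red.bc v G).left.surjective.connectedSpace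
    ((Over.pullback v).map f : Red.bc v G' ⟶ Red.bc v G).left.continuous
  have hmax : AGF.IsMaxTorus iK := H20Borel.isMaxTorus_image ((Over.pullback v).map f : Red.bc v G' ⟶ Red.bc v G)
    hSK iK pK (by rw [← Functor.map_comp, hpi, Functor.map_comp])
  haveI := hmax.2.1
  have hC : Red.IsTorus C := H19SemiAb.isTorus_of_bc (K := K) hmax.2.2.1
  exact ⟨C, gC, i, p, H21Diag.isMaximalTorus_of_bc i hC v inferInstance
    (H21Red0.isMaximalTorus_of_maximal iK hmax.2.2.1 hmax.2.2.2), hpi, hfl, hsur, inferInstance⟩

/-- over an algebraically closed field the preimage of a maximal torus is a maximal torus -/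
theorem exists_preimage_maxTorus [IsAlgClosed k] (hc : KerCentral f) (hG' : Red.IsReductive G') [IsAffine G.left]
    [Smooth G.hom] [ConnectedSpace G.left] [IsAffine G'.left] [Smooth G'.hom] [ConnectedSpace G'.left] [Surjective f.left]
    {T : Over (Sk k)} [GrpObj T] {i : T ⟶ G} (hT : Red.IsMaximalTorus i) :
    ∃ (S : Over (Sk k)) (_ : GrpObj S) (j : S ⟶ G') (p : S ⟶ T), Red.IsMaximalTorus j ∧ IsPullback j p f i := by
  obtain ⟨S, gS, j₀, hj₀⟩ := LeadTorus.exists_maximalTorus_connected k G'
  letI := gS
  obtain ⟨C, gC, i₀, p₀, hi₀, hp₀, hpf, hps, hpq⟩ := exists_image_maxTorus f hj₀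
  letI := gC
  haveI := hi₀.1; haveI := hi₀.2.1; haveI := hT.1; haveI := hT.2.1; haveI := hpf; haveI := hps; haveI := hpq
  obtain ⟨g, e, he⟩ := S3901.result k G C T i₀ i (H20Conj.isMaxTorus_of_isMaximalTorus hi₀)
    (H20Conj.isMaxTorus_of_isMaximalTorus hT)
  haveI : LocallyOfFiniteType G'.hom := inferInstance
  haveI : LocallyOfFiniteType G.hom := inferInstance
  haveI : QuasiCompact G'.hom := inferInstance
  haveI : CompactSpace G'.left := QuasiCompact.compactSpace_of_compactSpace G'.hom
  obtain ⟨g', hg'⟩ := H20Borel.exists_pt_lift f g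
  have hj : Red.IsMaximalTorus (j₀ ≫ H21Split.R2.cj g') := by
    obtain ⟨hm, hmo, hTt, hmax⟩ := H20Conj.isMaxTorus_of_isMaximalTorus hj₀
    haveI := hm; haveI := hmo
    refine H21Red0.isMaximalTorus_of_maximal _ hTt fun T' _ j _ _ φ hT' hφ => ?_
    exact hmax T' (j ≫ H21Split.R2.cj g'⁻¹) φ hT' (by
      rw [← Category.assoc, hφ, Category.assoc, H21Split.R2.cj_mul, inv_mul_cancel, H21Split.R2.cj_one, Category.comp_id])
  haveI : IsIso e.hom.left := inferInstanceAs (IsIso ((Over.forget _).map e.hom))
  haveI : Flat (p₀ ≫ e.hom).left := by rw [Over.comp_left]; infer_instance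
  haveI : Surjective (p₀ ≫ e.hom).left := by rw [Over.comp_left]; infer_instance
  haveI : QuasiCompact (p₀ ≫ e.hom).left := by rw [Over.comp_left]; infer_instance
  refine ⟨S, gS, _, p₀ ≫ e.hom, hj, isPullback_of_surjective f hc hG' hj (p₀ ≫ e.hom) ?_⟩
  rw [Category.assoc, he, H21Split.R2.comp_cj, MonObj.mul_comp, MonObj.mul_comp, GrpObj.inv_comp,
    Category.assoc, hg', ← hp₀, AGF.conjBy, MonObj.comp_mul, MonObj.comp_mul, GrpObj.comp_inv, ← Category.assoc,
    toUnit_unique (p₀ ≫ toUnit C) (toUnit S)]

end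

end H19Unip
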