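import Groth.Agent.H19Unip.Radical
import Groth.Agent.H19Alb.Open
import Groth.Agent.H06GenSub.BaseChange
import Groth.Agent.H21Diag.CentrePiece

/-!
# Conjugates of a unipotent normal subgroup of the identity component
-/

set_option autoImplicit false
set_option linter.style.haveILetI false
set_option backward.isDefEq.respectTransparency false
set_option maxHeartbeats 2000000
set_option synthInstance.maxHeartbeats 400000

universe u

open CategoryTheory CategoryTheory.Limits MonoidalCategory CartesianMonoidalCategory MonObj AlgebraicGeometry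
open Groth.Agent.H27Witt H20Mu H20Conj H20Borel H21Chev

noncomputable section

namespace H19Unip

/-- A map with range inside an open subscheme lifts. -/
theorem exists_lift_open {S : Scheme.{u}} {A B G : Over S} (j : B ⟶ G) [IsOpenImmersion j.left] (f : A ⟶ G)
    (h : Set.range f.left ⊆ Set.range j.left) : ∃ f' : A ⟶ B, f' ≫ j = f := by
  refine ⟨Over.homMk (IsOpenImmersion.lift j.left f.left h) ?_, Over.OverMorphism.ext (IsOpenImmersion.lift_fac _ _ h)⟩
  rw [← Over.w j, ← Category.assoc, IsOpenImmersion.lift_fac, Over.w]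

variable {k : Type u} [Field k] [IsAlgClosed k]

local notation "Pt" X => 𝟙_ (Over (Sk k)) ⟶ X

/-- Over an algebraically closed field, all conjugates of a connected normal subgroup without subtorus of the
identity component lie in one closed subgroup without subtorus. -/
theorem exists_conjugates_le {G G₀ U : Over (Sk k)} [GrpObj G] [GrpObj G₀] [GrpObj U] [IsAffine G.left]
    [Smooth G.hom] (J : G₀ ⟶ G) [IsMonHom J] [IsOpenImmersion J.left] [IsClosedImmersion J.left]
    [ConnectedSpace G₀.left] (a : U ⟶ G₀) [IsMonHom a] [IsClosedImmersion a.left] [Smooth U.hom]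
    [ConnectedSpace U.left] (hn : AlgGrp.IsNormalHom a) (hns : Red.HasNoSubtorus k U) :
    ∃ (M : Over (Sk k)) (_ : GrpObj M) (iM : M ⟶ G), IsMonHom iM ∧ IsClosedImmersion iM.left ∧
      Red.HasNoSubtorus k M ∧
      ∀ (g : Pt G) (w : Pt U), ∃ m : Pt M, m ≫ iM = g * (w ≫ a ≫ J) * g⁻¹ := by
  classical
  haveI : IsAffine G₀.left := isAffine_of_isAffineHom J.left
  haveI : Smooth G₀.hom := by rw [← Over.w J]; infer_instance
  haveI : IsAffine U.left := isAffine_of_isAffineHom a.left
  haveI : LocallyOfFiniteType U.hom := inferInstance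
  haveI : LocallyOfFiniteType G₀.hom := inferInstance
  haveI : LocallyOfFiniteType G.hom := inferInstance
  haveI : AlgebraicGeometry.IsReduced U.left := Groth.Agent.H13AlgSp.isReduced_of_smooth_mor U.hom
  haveI : Mono J := Over.mono_of_mono_left _
  have hex : ∀ g : Pt G, ∃ α : G₀ ⟶ G₀, α ≫ J = J ≫ H20Mu.conj g := fun g => by
    haveI : IsMonHom (J ≫ H20Mu.conj g) := inferInstance
    exact exists_lift_open J _ (Groth.Agent.H19Alb.range_subset_open_subgroup J (J ≫ H20Mu.conj g))
  choose α hα using hex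
  haveI : ∀ g, IsMonHom (α g) := fun g => by
    haveI : IsMonHom (α g ≫ J) := by rw [hα]; infer_instance
    exact Groth.Agent.H21Diag.isMonHom_of_comp_mono (α g) J
  have hαp : ∀ g (x : Pt G₀), x ≫ α g ≫ J = g⁻¹ * (x ≫ J) * g := fun g x => by
    rw [hα, ← Category.assoc, pt_comp_conj]
  let c : (Pt G) → (U ⟶ G₀) := fun g => a ≫ α g
  haveI : ∀ g, IsMonHom (c g) := fun g => inferInstanceAs (IsMonHom (a ≫ α g))
  have hc : ∀ g (w : Pt U), (w ≫ c g) ≫ J = g⁻¹ * ((w ≫ a) ≫ J) * g := fun g w => by
    show (w ≫ a ≫ α g) ≫ J = _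
    rw [← Category.assoc w a, Category.assoc (w ≫ a), hαp]
  have hcn : ∀ g (n : Pt G₀) (w : Pt U), ∃ w' : Pt U, w' ≫ c g = n * (w ≫ c g) * n⁻¹ := fun g n w => by
    obtain ⟨w', hw'⟩ := hn _ (n ≫ α g⁻¹) w
    refine ⟨w', (cancel_mono J).mp ?_⟩
    rw [hc, ← hw']
    simp only [MonObj.mul_comp, GrpObj.inv_comp, hc]
    rw [Category.assoc n, hαp, _root_.inv_inv]
    group
  haveI : ∀ g, IsClosedImmersion (c g).left := fun g => by
    haveI := isIso_conj g
    haveI : IsIso (H20Mu.conj g).left := inferInstanceAs (IsIso ((Over.forget _).map (H20Mu.conj g)))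
    haveI : IsClosedImmersion ((c g).left ≫ J.left) := by
      rw [← Over.comp_left]
      show IsClosedImmersion ((a ≫ α g) ≫ J).left
      rw [Category.assoc, hα, Over.comp_left, Over.comp_left]; infer_instance
    exact IsClosedImmersion.of_comp (c g).left J.left
  obtain ⟨B, gB, iB, hB⟩ := exists_isBorelOver (G := G₀)
  letI := gB; haveI := hB.1; haveI := hB.2.1
  let S : (Pt G) → Subgroup (Pt G₀) := fun g => (postHom (c g)).range
  have hRB : (⨆ g, S g) ≤ (postHom iB).range := iSup_le fun g => by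
    rintro _ ⟨w, rfl⟩
    obtain ⟨b, hb⟩ := mem_borel_of_normal hns (c g) (hcn g) (clo_range_le' (c g)) iB hB w
    exact ⟨b, hb⟩
  have hnorm : ∀ n, ∀ x ∈ ⨆ g, S g, n⁻¹ * x * n ∈ ⨆ g, S g := fun n x hx => by
    have hle : (⨆ g, S g) ≤ (⨆ g, S g).comap (MulAut.conj n⁻¹).toMonoidHom := iSup_le fun g => by
      rintro _ ⟨w, rfl⟩
      obtain ⟨w', hw'⟩ := hcn g n⁻¹ w
      exact le_iSup S g ⟨w', hw'⟩
    simpa [MulAut.conj_apply, _root_.mul_assoc] using hle hx
  have hclo : clo (⨆ g, S g) ≤ (postHom iB).range := fun x hx =>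
    clo_range_le iB fun r hr => hx r (vanish_anti hRB hr)
  obtain ⟨n, hn'⟩ := hB.2.2.2.2.1
  haveI : Group.IsSolvable (Pt B) := ⟨n, hn' _⟩
  haveI : Group.IsSolvable (postHom iB).range :=
    Group.isSolvable_of_surjective (f := (postHom iB).rangeRestrict) (MonoidHom.rangeRestrict_surjective _)
  obtain ⟨M, gM, iM, hMm, hMci, -, -, hMns, -, -, hlift⟩ := exists_normal_generated S
    (fun g => ⟨U, inferInstance, c g, inferInstance, inferInstance, inferInstance, inferInstance, hns, rfl⟩) hnorm
    (Group.isSolvable_of_isSolvable_injective (f := Subgroup.inclusion hclo) (Subgroup.inclusion_injective _))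
  letI := gM; haveI := hMm; haveI := hMci
  refine ⟨M, gM, iM ≫ J, inferInstance, by rw [Over.comp_left]; infer_instance, hMns, fun g w => ?_⟩
  obtain ⟨f, hf⟩ := hlift (c g⁻¹) fun y => le_iSup S g⁻¹ ⟨y, rfl⟩
  refine ⟨w ≫ f, ?_⟩
  rw [Category.assoc, ← Category.assoc f, hf, ← Category.assoc, hc, _root_.inv_inv, Category.assoc]

end H19Unip

end
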