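import Groth.Agent.H19Unip.Radical

/-!
The largest connected normal subgroup without subtorus.
-/

set_option autoImplicit false
set_option linter.style.haveILetI false
set_option backward.isDefEq.respectTransparency false
set_option maxHeartbeats 2000000
set_option synthInstance.maxHeartbeats 400000

universe u

open CategoryTheory CategoryTheory.Limits MonoidalCategory CartesianMonoidalCategory MonObj AlgebraicGeometry
open Groth.Agent.H27Witt H20Mu H20Conj H20Borel H21Chev

noncomputable section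

namespace H19Unip

variable {k : Type u} [Field k] [IsAlgClosed k]

local notation "Pt" X => 𝟙_ (Over (Sk k)) ⟶ X

/-- A connected smooth affine group has a largest connected normal subgroup without subtorus. -/
theorem exists_max_noSubtorus_normal (L : Over (Sk k)) [GrpObj L] [IsAffine L.left] [Smooth L.hom]
    [ConnectedSpace L.left] :
    ∃ (M : Over (Sk k)) (_ : GrpObj M) (i : M ⟶ L), IsMonHom i ∧ IsClosedImmersion i.left ∧ Smooth M.hom ∧
      ConnectedSpace M.left ∧ Red.HasNoSubtorus k M ∧ AlgGrp.IsNormalHom i ∧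
      ∀ (W : Over (Sk k)) [GrpObj W] (c : W ⟶ L) [IsMonHom c], IsClosedImmersion c.left → Smooth W.hom →
        ConnectedSpace W.left → Red.HasNoSubtorus k W → AlgGrp.IsNormalHom c → ∃ f : W ⟶ M, f ≫ i = c := by
  classical
  haveI : LocallyOfFiniteType L.hom := inferInstance
  let K := {R : Subgroup (Pt L) // ∃ (W : Over (Sk k)) (_ : GrpObj W) (c : W ⟶ L) (_ : IsMonHom c),
    IsClosedImmersion c.left ∧ Smooth W.hom ∧ ConnectedSpace W.left ∧ Red.HasNoSubtorus k W ∧ AlgGrp.IsNormalHom c ∧
      R = (postHom c).range}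
  let S : K → Subgroup (Pt L) := fun R => R.1
  obtain ⟨B, gB, iB, hB⟩ := exists_isBorelOver (G := L)
  letI := gB; haveI := hB.1; haveI := hB.2.1
  have hRB : (⨆ l, S l) ≤ (postHom iB).range := iSup_le fun l => by
    obtain ⟨R, W, gW, c, hc, hci, hWs, hWc, hns, hn, rfl⟩ := l
    letI := gW; haveI := hc; haveI := hci; haveI := hWs; haveI := hWc
    haveI : IsAffine W.left := isAffine_of_isAffineHom c.left
    rintro _ ⟨w, rfl⟩
    obtain ⟨b, hb⟩ := mem_borel_of_normal hns c (fun g w => by
      obtain ⟨w', hw'⟩ := hn _ g w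
      exact ⟨w', hw'.symm⟩) (clo_range_le' c) iB hB w
    exact ⟨b, hb⟩
  have hnorm : ∀ n, ∀ x ∈ ⨆ l, S l, n⁻¹ * x * n ∈ ⨆ l, S l := fun n x hx => by
    have hle : (⨆ l, S l) ≤ (⨆ l, S l).comap (MulAut.conj n⁻¹).toMonoidHom := iSup_le fun l => by
      obtain ⟨R, W, gW, c, hc, hci, hWs, hWc, hns, hn, rfl⟩ := l
      rintro _ ⟨w, rfl⟩
      obtain ⟨w', hw'⟩ := hn _ n⁻¹ w
      exact le_iSup S ⟨_, W, gW, c, hc, hci, hWs, hWc, hns, hn, rfl⟩ ⟨w', hw'.symm⟩
    simpa [MulAut.conj_apply, _root_.mul_assoc] using hle hx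
  have hclo : clo (⨆ l, S l) ≤ (postHom iB).range := fun x hx =>
    clo_range_le iB fun r hr => hx r (vanish_anti hRB hr)
  obtain ⟨n, hn'⟩ := hB.2.2.2.2.1
  haveI : Group.IsSolvable (Pt B) := ⟨n, hn' _⟩
  haveI : Group.IsSolvable (postHom iB).range :=
    Group.isSolvable_of_surjective (f := (postHom iB).rangeRestrict) (MonoidHom.rangeRestrict_surjective _)
  obtain ⟨M, gM, iM, hMm, hMci, hMs, hMc, hMns, hMn, -, hlift⟩ := exists_normal_generated S
    (fun l => by
      obtain ⟨R, W, gW, c, hc, hci, hWs, hWc, hns, hn, rfl⟩ := l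
      letI := gW; haveI := hci
      haveI : IsAffine W.left := isAffine_of_isAffineHom c.left
      exact ⟨W, gW, c, hc, inferInstance, hWs, hWc, hns, rfl⟩) hnorm
    (Group.isSolvable_of_isSolvable_injective (f := Subgroup.inclusion hclo) (Subgroup.inclusion_injective _))
  refine ⟨M, gM, iM, hMm, hMci, hMs, hMc, hMns, hMn, fun W _ c _ hci hWs hWc hns hn => ?_⟩
  haveI := hci; haveI := hWs
  haveI : IsAffine W.left := isAffine_of_isAffineHom c.left
  haveI : LocallyOfFiniteType W.hom := inferInstance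
  haveI : AlgebraicGeometry.IsReduced W.left := Groth.Agent.H13AlgSp.isReduced_of_smooth_mor W.hom
  exact hlift c fun y => le_iSup S ⟨_, W, inferInstance, c, inferInstance, hci, hWs, hWc, hns, hn, rfl⟩ ⟨y, rfl⟩

end H19Unip

end
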