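import Groth.Agent.H19Unip.Radical
import Groth.Agent.S8210
import Groth.Agent.S5255
import Groth.Agent.S5510
import Groth.Agent.H19Grp.ConnFibre
import Groth.Agent.H21Dyn.CentralizerField
import Groth.Agent.H20Red.Scheme
import Groth.Agent.H21Diag.Chev.Reductive
import Groth.Agent.H20Borel.CartanBorel

/-!
# Normal subgroups of reductive groups
-/

set_option autoImplicit false
set_option linter.style.haveILetI false
set_option backward.isDefEq.respectTransparency false
set_option maxHeartbeats 2000000
set_option synthInstance.maxHeartbeats 400000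

universe u

open CategoryTheory CategoryTheory.Limits MonoidalCategory CartesianMonoidalCategory MonObj AlgebraicGeometry
open Groth.Agent.H27Witt H20Mu H20Conj H20Borel H21Chev

noncomputable section

namespace H19Unip

variable {K : Type u} [Field K] [IsAlgClosed K]

/-- Connected groups over a field have connected fibres over the spectrum of the field. -/
theorem connectedSpace_pullback_residue (N : Over (Sk K)) [GrpObj N] [LocallyOfFiniteType N.hom]
    [ConnectedSpace N.left] (p : ↥(Sk K)) :
    ConnectedSpace ↥(pullback N.hom ((Sk K).fromSpecResidueField p)) := by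
  haveI := Groth.Agent.H19Grp.geometricallyIrreducible_of_connectedSpace_group N
  haveI : IrreducibleSpace ↥(pullback N.hom ((Sk K).fromSpecResidueField p)) :=
    GeometricallyIrreducible.geometrically_irreducibleSpace _ _ _ (IsPullback.of_hasPullback _ _)
  infer_instance

/-- Rational points are enough for the image of a normal subgroup under a mono. -/
theorem eq_one_of_trivial {M W : Over (Sk K)} [GrpObj M] (h : Red.IsTrivialGrp M) (f : W ⟶ M) : f = 1 := by
  haveI : IsIso M.hom := h
  haveI : Mono M.hom := inferInstance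
  exact Over.OverMorphism.ext ((cancel_mono M.hom).mp (by rw [Over.w, Over.w]))

/-- A group with a monomorphism which is the unit is trivial. -/
theorem isTrivialGrp_of_mono_one {W G : Over (Sk K)} [GrpObj W] [GrpObj G] (i : W ⟶ G) [IsMonHom i] [Mono i]
    (h : i = 1) : Red.IsTrivialGrp W := by
  have h2 : 𝟙 W = 1 := (cancel_mono i).mp (by rw [Category.id_comp, MonObj.one_comp, h])
  haveI : IsIso (toUnit W) := ⟨1, by rw [MonObj.comp_one, ← h2], toUnit_unique _ _⟩
  have hsh : (toUnit W).left = W.hom := by
    have := Over.w (toUnit W)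
    rwa [show (𝟙_ (Over (Sk K))).hom = 𝟙 _ from rfl, Category.comp_id] at this
  show IsIso W.hom
  rw [← hsh]
  exact ((Over.forget _).mapIso (asIso (toUnit W))).isIso_hom

variable {G : Over (Sk K)} [GrpObj G] {N : Over (Sk K)} [GrpObj N] (i : N ⟶ G) [IsMonHom i]
  [IsClosedImmersion i.left] [Smooth N.hom] [ConnectedSpace N.left]

/-- **Normal subgroups of reductive groups are reductive.** -/
theorem isReductiveOver_of_normal (hN : AlgGrp.IsNormalHom i) (hG : Red.IsReductiveOver K G) :
    Red.IsReductiveOver K N := by
  obtain ⟨ha, hs, hc, hU⟩ := hG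
  haveI := ha; haveI := hs; haveI := hc
  haveI : IsAffine N.left := isAffine_of_isAffineHom i.left
  refine ⟨inferInstance, inferInstance, inferInstance, fun W _ iW _ hci hWs hWc hWn hWns => ?_⟩
  haveI := hci; haveI := hWs; haveI := hWc
  obtain ⟨M, gM, iM, f, hMm, hMci, hMs, hMc, hMns, hMn, -, hf⟩ := exists_normal_of_normal i (fun g n => by
    obtain ⟨n', hn'⟩ := hN _ g n
    exact ⟨n', hn'.symm⟩) iW hWns hWn
  letI := gM; haveI := hMm
  haveI : IsClosedImmersion (iW ≫ i).left := by rw [Over.comp_left]; infer_instance
  haveI : Mono (iW ≫ i) := Over.mono_of_mono_left _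
  exact isTrivialGrp_of_mono_one (iW ≫ i) (by
    rw [← hf, eq_one_of_trivial (hU M iM hMci hMs hMc hMn hMns) f, MonObj.one_comp])

/-- A normal torus of a connected group is central. -/
theorem central_of_normal_torus {L : Over (Sk K)} [GrpObj L] [LocallyOfFiniteType L.hom] [ConnectedSpace L.left]
    {T : Over (Sk K)} [GrpObj T] (iT : T ⟶ L) [IsMonHom iT] [Mono iT] (hT : Red.IsTorus T)
    (hn : AlgGrp.IsNormalHom iT) (X : Over (Sk K)) (t : X ⟶ T) (g : X ⟶ L) :
    (t ≫ iT) * g = g * (t ≫ iT) :=
  (Groth.Agent.S5255.result L T (connectedSpace_pullback_residue L) iT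
    (Groth.Agent.H21Diag.isMultTypeFT_of_isTorus hT) hn X g t).symm

/-- **Normal subgroups of semisimple groups are semisimple.** -/
theorem isSemisimpleOver_of_normal (hN : AlgGrp.IsNormalHom i) (hG : Red.IsSemisimpleOver K G)
    (hNred : Red.IsReductive N) : Red.IsSemisimpleOver K N := by
  have hred := isReductiveOver_of_normal i hN hG.1
  refine ⟨hred, fun T _ iT _ hci hTn hT => ?_⟩
  obtain ⟨ha, hs, hc, -⟩ := id hG.1
  haveI := ha; haveI := hs; haveI := hc; haveI := hci
  haveI : IsAffine N.left := isAffine_of_isAffineHom i.left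
  haveI : LocallyOfFiniteType N.hom := inferInstance
  haveI : Mono iT := Over.mono_of_mono_left _
  obtain ⟨Z, gZ, z, hz, hzc, hZ⟩ := Groth.Agent.S5510.result N hNred
  letI := gZ; haveI := hz.1; haveI := hz.2.1
  obtain ⟨w, hw⟩ := (hz.2.2 T iT).mpr fun X' x q => by
    have h := central_of_normal_torus iT hT hTn X' x q
    rw [Category.comp_id]
    exact h
  have hcen : ∀ (X : Over (Sk K)) (t : X ⟶ T) (g : X ⟶ G), (t ≫ iT ≫ i) * g = g * (t ≫ iT ≫ i) := fun X t g => by
    have h := Groth.Agent.S8210.result K G N i hN Z z hz hZ T w X t g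
    rwa [← Category.assoc w z, hw] at h
  haveI : IsClosedImmersion (iT ≫ i).left := by rw [Over.comp_left]; infer_instance
  exact hG.2 T (iT ≫ i) inferInstance (fun X g t => ⟨t, by rw [← hcen X t g, mul_inv_cancel_right]⟩) hT

end H19Unip

end
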