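import Groth.Agent.H20Borel.PointsSub

/-!
# The subgroup scheme of any connected group of rational points

The variant of `H20Borel.exists_subgroup_scheme` without solvability.
-/

set_option autoImplicit false
set_option linter.style.haveILetI false
set_option backward.isDefEq.respectTransparency false

universe u

open CategoryTheory CategoryTheory.Limits MonoidalCategory CartesianMonoidalCategory MonObj AlgebraicGeometry
open Groth.Agent.H27Witt H20Mu H20Conj H20Borel

noncomputable section

namespace H19Unip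

variable {k : Type u} [Field k] [IsAlgClosed k]

local notation "Pt" X => 𝟙_ (Over (Sk k)) ⟶ X

variable {G : Over (Sk k)} [GrpObj G] [IsAffine G.left] [LocallyOfFiniteType G.hom]

/-- The subgroup scheme of a connected group of points. -/
theorem exists_subScheme (R : Subgroup (Pt G)) (hR : (vanish (R : Set (Pt G))).IsPrime) :
    ∃ (H : Over (Sk k)) (_ : GrpObj H) (i : H ⟶ G), IsMonHom i ∧ IsClosedImmersion i.left ∧ IsAffine H.left ∧
      Smooth H.hom ∧ ConnectedSpace H.left ∧ (∀ h : Pt H, h ≫ i ∈ clo R) ∧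
      ∀ {Y : Over (Sk k)} [IsAffine Y.left] [LocallyOfFiniteType Y.hom] [AlgebraicGeometry.IsReduced Y.left]
        (f : Y ⟶ G), (∀ y : Pt Y, y ≫ f ∈ clo R) → ∃ f' : Y ⟶ H, f' ≫ i = f := by
  let P := vanish (R : Set (Pt G))
  haveI := hR
  let A := Fn G ⧸ P
  let e := Fn.specAlg (k := k) A
  let H : Over (Sk k) := Over.mk (Spec.map (CommRingCat.ofHom (algebraMap k A)))
  haveI : IsAffine H.left := inferInstanceAs (IsAffine (Spec _))
  obtain ⟨i, hi⟩ := Fn.exists_hom (X := H) (Y := G) (e.toAlgHom.comp (Ideal.Quotient.mkₐ k P))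
  haveI hci : IsClosedImmersion i.left := IsClosedImmersion.of_surjective_of_isAffine _
    ((congrArg (fun f : Fn G →ₐ[k] Fn H => Function.Surjective f) hi).mpr
      (e.surjective.comp Ideal.Quotient.mk_surjective))
  haveI : IsIntegral H.left := inferInstanceAs (IsIntegral (Spec (CommRingCat.of A)))
  haveI : LocallyOfFiniteType H.hom := by rw [← Over.w i]; infer_instance
  haveI : Mono i := (Over.forget _).mono_of_mono_map (inferInstanceAs (Mono i.left))
  have hker : ∀ a, Fn.pull i a = 0 ↔ a ∈ P := fun a => by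
    rw [hi, AlgHom.comp_apply]
    exact (map_eq_zero_iff e.toAlgHom e.injective).trans Ideal.Quotient.eq_zero_iff_mem
  have hpts : ∀ h : Pt H, h ≫ i ∈ clo R := fun h a ha => by
    rw [← val_pull, (hker a).mpr ha, map_zero]
  have hlift : ∀ {Y : Over (Sk k)} [IsAffine Y.left] [LocallyOfFiniteType Y.hom] [AlgebraicGeometry.IsReduced Y.left]
      (f : Y ⟶ G), (∀ y : Pt Y, y ≫ f ∈ clo R) → ∃ f' : Y ⟶ H, f' ≫ i = f := by
    intro Y _ _ _ f hf
    have hP0 : ∀ a ∈ P, Fn.pull f a = 0 := fun a ha => ext_points_reduced fun y => by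
      rw [val_pull, map_zero]; exact hf y a ha
    let ψ : A →ₐ[k] Fn Y := Ideal.Quotient.liftₐ P (Fn.pull f) hP0
    obtain ⟨f', hf'⟩ := Fn.exists_hom (X := Y) (Y := H) (ψ.comp e.symm.toAlgHom)
    refine ⟨f', Fn.hom_ext ?_⟩
    rw [Fn.pull_comp, hf', hi]
    refine AlgHom.ext fun a => ?_
    show ψ (e.symm (e (Ideal.Quotient.mk P a))) = Fn.pull f a
    exact (congrArg ψ (e.symm_apply_apply (Ideal.Quotient.mk P a))).trans rfl
  haveI : GeometricallyReduced H.hom := Groth.Agent.H06Red.geometricallyReduced_of_perfectField _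
  haveI : AlgebraicGeometry.IsReduced (H ⊗ H).left := by
    show AlgebraicGeometry.IsReduced (pullback H.hom H.hom)
    exact Groth.Agent.H06Red.isReduced_pullback _ _
  haveI : IsAffine (H ⊗ H).left := inferInstanceAs (IsAffine (pullback H.hom H.hom))
  haveI : LocallyOfFiniteType (H ⊗ H).hom := by
    show LocallyOfFiniteType (pullback.fst H.hom H.hom ≫ H.hom); infer_instance
  obtain ⟨m, hm⟩ := hlift ((i ⊗ₘ i) ≫ μ[G]) fun y => by
    have e1 : y ≫ (i ⊗ₘ i) ≫ μ[G] = (y ≫ fst H H ≫ i) * (y ≫ snd H H ≫ i) := by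
      rw [Hom.mul_def, ← comp_lift_assoc]
      congr 2
    rw [e1, ← Category.assoc, ← Category.assoc]
    exact (clo R).mul_mem (hpts _) (hpts _)
  obtain ⟨v, hv⟩ := hlift (i ≫ ι[G]) fun y => by
    rw [← Category.assoc, show (y ≫ i) ≫ ι[G] = (y ≫ i)⁻¹ from rfl]
    exact (clo R).inv_mem (hpts y)
  haveI : AlgebraicGeometry.IsReduced (T0 k).left := inferInstanceAs (AlgebraicGeometry.IsReduced (Spec (CommRingCat.of k)))
  haveI : IsAffine (𝟙_ (Over (Sk k))).left := inferInstanceAs (IsAffine (Spec (CommRingCat.of k)))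
  haveI : LocallyOfFiniteType (𝟙_ (Over (Sk k))).hom := inferInstanceAs (LocallyOfFiniteType (𝟙 (Sk k)))
  haveI : AlgebraicGeometry.IsReduced (𝟙_ (Over (Sk k))).left :=
    inferInstanceAs (AlgebraicGeometry.IsReduced (Spec (CommRingCat.of k)))
  obtain ⟨o, ho⟩ := hlift (1 : Pt G) fun y => by rw [MonObj.comp_one]; exact (clo R).one_mem
  letI : MonObj H :=
    { one := o
      mul := m
      one_mul := by
        rw [← cancel_mono i, Category.assoc, hm, ← Category.assoc, ← tensorHom_id,
          tensorHom_comp_tensorHom, ho, Category.id_comp, leftUnitor_hom]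
        rw [show (1 : Pt G) = η[G] by rw [Hom.one_def, toUnit_unique (toUnit _) (𝟙 _), Category.id_comp]]
        rw [MonoidalCategory.tensorHom_def', Category.assoc, MonObj.one_mul, leftUnitor_hom, whiskerLeft_snd]
      mul_one := by
        rw [← cancel_mono i, Category.assoc, hm, ← Category.assoc, ← id_tensorHom,
          tensorHom_comp_tensorHom, ho, Category.id_comp, rightUnitor_hom]
        rw [show (1 : Pt G) = η[G] by rw [Hom.one_def, toUnit_unique (toUnit _) (𝟙 _), Category.id_comp]]
        rw [MonoidalCategory.tensorHom_def, Category.assoc, MonObj.mul_one, rightUnitor_hom, whiskerRight_fst]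
      mul_assoc := by
        have e1 : ((i ⊗ₘ i) ≫ μ[G]) ⊗ₘ i = ((i ⊗ₘ i) ⊗ₘ i) ≫ (μ[G] ▷ G) := by
          rw [← tensorHom_id, tensorHom_comp_tensorHom, Category.comp_id]
        have e2 : i ⊗ₘ ((i ⊗ₘ i) ≫ μ[G]) = (i ⊗ₘ (i ⊗ₘ i)) ≫ (G ◁ μ[G]) := by
          rw [← id_tensorHom, tensorHom_comp_tensorHom, Category.comp_id]
        rw [← cancel_mono i, Category.assoc, hm, ← Category.assoc, ← tensorHom_id,
          tensorHom_comp_tensorHom, hm, Category.id_comp, e1, Category.assoc, Category.assoc,
          Category.assoc, hm, ← Category.assoc (H ◁ m), ← id_tensorHom, tensorHom_comp_tensorHom,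
          hm, Category.id_comp, e2, Category.assoc, MonObj.mul_assoc, associator_naturality_assoc] }
  have hone : (1 : Pt G) = η[G] := by rw [Hom.one_def, toUnit_unique (toUnit _) (𝟙 _), Category.id_comp]
  letI : GrpObj H :=
    { inv := v
      left_inv := by
        rw [← cancel_mono i]
        show (lift v (𝟙 H) ≫ m) ≫ i = (toUnit H ≫ o) ≫ i
        rw [Category.assoc, hm, lift_map_assoc, hv, Category.id_comp, Category.assoc, ho, hone]
        have h := inv_mul_cancel i
        simpa only [Hom.mul_def, Hom.inv_def, Hom.one_def] using h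
      right_inv := by
        rw [← cancel_mono i]
        show (lift (𝟙 H) v ≫ m) ≫ i = (toUnit H ≫ o) ≫ i
        rw [Category.assoc, hm, lift_map_assoc, hv, Category.id_comp, Category.assoc, ho, hone]
        have h := mul_inv_cancel i
        simpa only [Hom.mul_def, Hom.inv_def, Hom.one_def] using h }
  haveI hmon : IsMonHom i := { one_hom := ho.trans hone, mul_hom := hm }
  haveI hsm : Smooth H.hom := by
    letI hH : GrpObj H := inferInstance
    letI : GrpObj (Over.mk H.hom) := hH
    exact smooth_of_grpObj H.hom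
  exact ⟨H, inferInstance, i, hmon, hci, inferInstance, hsm, inferInstance, hpts, hlift⟩

end H19Unip

end
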