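import Groth.Agent.H21Diag.Chev.SelfCentral
import Groth.Agent.H19Borel.Basic
import Groth.Agent.H19Unip.SubScheme

/-!
# Unipotent radicals and homomorphisms, over an algebraically closed field
-/

set_option autoImplicit false
set_option linter.style.haveILetI false
set_option backward.isDefEq.respectTransparency false
set_option maxHeartbeats 1000000
set_option synthInstance.maxHeartbeats 400000

universe u

open CategoryTheory CategoryTheory.Limits MonoidalCategory CartesianMonoidalCategory MonObj AlgebraicGeometry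
open Groth.Agent.H27Witt H20Mu H20Conj H20Borel HopfRep H21Chev WithConv
open scoped TensorProduct

noncomputable section

namespace H19Unip

variable {k : Type u} [Field k] [IsAlgClosed k]

local notation "Pt" X => 𝟙_ (Over (Sk k)) ⟶ X

variable {G : Over (Sk k)} [GrpObj G] [IsAffine G.left] [Smooth G.hom] [ConnectedSpace G.left]

set_option maxHeartbeats 4000000 in
/-- The points of a Cartan subgroup are torus points times points of a normal subgroup without subtorus. -/
theorem exists_rad_part {T C : Over (Sk k)} [GrpObj T] [GrpObj C] {iT : T ⟶ G} (hT : AGF.IsMaxTorus iT)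
    (c : C ⟶ G) (hc : Red.IsCentralizerOf iT c) (tC : T ⟶ C) (htC : tC ≫ c = iT) :
    ∃ (W : Over (Sk k)) (_ : GrpObj W) (iW : W ⟶ G), IsMonHom iW ∧ IsClosedImmersion iW.left ∧ Smooth W.hom ∧
      ConnectedSpace W.left ∧ Red.HasNoSubtorus k W ∧ AlgGrp.IsNormalHom iW ∧
      ∀ x : Pt C, ∃ (t : Pt T) (w : Pt W), x ≫ c = (w ≫ iW) * (t ≫ iT) := by
  classical
  haveI := hT.1; haveI := hT.2.1
  obtain ⟨hci, hCs, hCa, hCc⟩ := centralizer_props iT hT.2.2.1 c hc
  haveI := hci; haveI := hCs; haveI := hCa; haveI := hCc; haveI := hc.1; haveI := hc.2.1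
  haveI hsolC := isSolvable_cartan hT c hc
  haveI := Fn.isDomain C
  haveI : LocallyOfFiniteType C.hom := inferInstance
  haveI : IsMonHom tC := by
    haveI : IsMonHom (tC ≫ c) := by rw [htC]; infer_instance
    exact Groth.Agent.H21Diag.isMonHom_of_comp_mono tC c
  haveI : Mono tC := by
    haveI : Mono (tC ≫ c) := by rw [htC]; infer_instance
    exact mono_of_mono tC c
  -- the retraction
  obtain ⟨hTa, hTs, -⟩ := torus_props T hT.2.2.1
  haveI := hTa; haveI := hTs
  obtain ⟨r, e, co, he, hco, hprod, hcomm⟩ := exists_cochars T hT.2.2.1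
  choose χ hχ hext using fun l => haveI := hco l; exists_char_extend hsolC hT.2.2.1 tC (co l)
  let ρ : C ⟶ T := (List.ofFn fun l => χ l ≫ e l).prod
  have hρcomp : ∀ {P : Over (Sk k)} (a : P ⟶ C), a ≫ ρ = (List.ofFn fun l => (a ≫ χ l) ≫ e l).prod := fun a => by
    let φ : (C ⟶ T) →* (_ ⟶ T) :=
      { toFun := fun m => a ≫ m, map_one' := MonObj.comp_one a, map_mul' := MonObj.comp_mul a }
    show φ ρ = _
    rw [map_list_prod, List.map_ofFn]
    simp [φ, Function.comp_def]
  have hprod' : ∀ {M : Type u} [CommMonoid M] (m : ℕ) (p q : Fin m → M),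
      (List.ofFn fun i => p i * q i).prod = (List.ofFn p).prod * (List.ofFn q).prod := by
    intro M _ m p q
    simp [List.prod_ofFn, Finset.prod_mul_distrib]
  have hρmul : ∀ {P : Over (Sk k)} (a b : P ⟶ C), (a * b) ≫ ρ = (a ≫ ρ) * (b ≫ ρ) := fun {P} a b => by
    letI : CommMonoid (P ⟶ T) := { (inferInstance : Monoid (P ⟶ T)) with mul_comm := hcomm }
    rw [hρcomp, hρcomp, hρcomp, ← hprod']
    refine congrArg List.prod (congrArg List.ofFn (funext fun l => ?_))
    haveI := hχ l; haveI := he l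
    rw [MonObj.mul_comp, MonObj.mul_comp]
  have hρtC : tC ≫ ρ = 𝟙 T := by
    rw [hρcomp, ← hprod]
    exact congrArg List.prod (congrArg List.ofFn (funext fun l => by rw [hext]))
  haveI : IsMonHom ρ := Groth.Agent.H21Diag.isMonHom_of_mul ρ hρmul
  -- the kernel
  let K : Subgroup (Pt C) := MonoidHom.ker (postHom ρ)
  let q : C ⟶ C := 𝟙 C * (ρ ≫ tC)⁻¹
  have hq : ∀ x : Pt C, x ≫ q = x * ((x ≫ ρ) ≫ tC)⁻¹ := fun x => by
    rw [MonObj.comp_mul, GrpObj.comp_inv, Category.comp_id, Category.assoc]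
  have hqK : ∀ x : Pt C, x ≫ q ∈ K := fun x => MonoidHom.mem_ker.mpr (by
    show (x ≫ q) ≫ ρ = 1
    rw [hq, MonObj.mul_comp, GrpObj.inv_comp, Category.assoc _ tC, hρtC, Category.comp_id, mul_inv_cancel])
  have hKq : ∀ x ∈ K, x ≫ q = x := fun x hx => by
    rw [hq, show x ≫ ρ = 1 from MonoidHom.mem_ker.mp hx, MonObj.one_comp, inv_one, _root_.mul_one]
  have hKp : (vanish (K : Set (Pt C))).IsPrime := by
    convert RingHom.ker_isPrime (Fn.pull q : Fn C →ₐ[k] Fn C)
    ext a
    rw [mem_vanish, RingHom.mem_ker]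
    refine ⟨fun h => Fn.ext_points fun x => ?_, fun h x hx => ?_⟩
    · show val x (Fn.pull q a) = val x 0
      rw [val_pull, map_zero]
      exact h _ (hqK x)
    · rw [← hKq x hx, ← val_pull, h, map_zero]
  have hcloK : ∀ x ∈ clo K, x ∈ K := fun x hx => by
    refine MonoidHom.mem_ker.mpr (Fn.point_ext (k := k) (AlgHom.ext fun a => ?_))
    show val (x ≫ ρ) a = val (1 : Pt T) a
    rw [← val_pull]
    have h := mem_clo.mp hx (Fn.pull ρ a - algebraMap k (Fn C) (val (1 : Pt T) a)) (mem_vanish.mpr fun y hy => by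
      rw [map_sub, val_pull, show y ≫ ρ = 1 from MonoidHom.mem_ker.mp hy, AlgHom.commutes, Algebra.algebraMap_self,
        RingHom.id_apply, sub_self])
    rwa [map_sub, AlgHom.commutes, Algebra.algebraMap_self, RingHom.id_apply, sub_eq_zero] at h
  obtain ⟨N, gN, i, him, hici, hNa, hNs, hNc, -, hNpts, hlift⟩ := exists_subgroup_scheme K hKp
    (Group.isSolvable_of_isSolvable_injective (f := (clo K).subtype) Subtype.val_injective)
  letI := gN; haveI := him; haveI := hici; haveI := hNa; haveI := hNs; haveI := hNc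
  haveI : Mono i := Over.mono_of_mono_left _
  haveI : LocallyOfFiniteType N.hom := inferInstance
  have hiρ : i ≫ ρ = 1 := hom_ext_pts fun y => by
    rw [MonObj.comp_one, ← Category.assoc]
    exact MonoidHom.mem_ker.mp (hcloK _ (hNpts y))
  have hNns : Red.HasNoSubtorus k N := by
    intro S gS js hjs hm hS
    haveI := hjs; haveI := hm
    obtain ⟨hSa, hSs, -⟩ := torus_props S hS
    haveI := hSa; haveI := hSs
    obtain ⟨r', e', co', he', hco', hprod'', -⟩ := exists_cochars S hS
    have hkill : ∀ l, co' l = 1 := fun l => by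
      haveI := hco' l
      obtain ⟨X, hX, hXψ⟩ := exists_char_extend hsolC hS (js ≫ i) (co' l)
      haveI := hX
      have hXT : X = ρ ≫ tC ≫ X := by
        haveI : IsMonHom (ρ ≫ tC ≫ X) := inferInstance
        exact char_ext_of_centralizer hT c hc tC htC X (ρ ≫ tC ≫ X) (by
          rw [← Category.assoc tC ρ, hρtC, Category.id_comp])
      rw [← hXψ, hXT, Category.assoc js, ← Category.assoc i ρ, hiρ, MonObj.one_comp, MonObj.comp_one]
    have hid : 𝟙 S = 1 := by
      rw [← hprod'']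
      refine List.prod_eq_one fun x hx => ?_
      obtain ⟨l, rfl⟩ := List.mem_ofFn.mp hx
      haveI := he' l
      rw [hkill, MonObj.one_comp]
    haveI : IsIso (toUnit S) := ⟨(1 : Pt S), by rw [MonObj.comp_one, ← hid], toUnit_unique _ _⟩
    have hsh : (toUnit S).left = S.hom := by
      have := Over.w (toUnit S)
      rwa [show (𝟙_ (Over (Sk k))).hom = 𝟙 _ from rfl, Category.comp_id] at this
    show IsIso S.hom
    rw [← hsh]
    exact ((Over.forget _).mapIso (asIso (toUnit S))).isIso_hom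
  obtain ⟨W, gW, iW, hWm, hWci, hWs, hWc, hWns, hWn, -, f, hf⟩ := exists_normal_of_forall iT hT hNns (i ≫ c)
    fun B _ iB t hB ht h => by
      obtain ⟨f, hf⟩ := exists_cartan_factor iT hT c hc iB hB t ht
      exact ⟨(h ≫ i) ≫ f, by rw [Category.assoc, hf, Category.assoc]⟩
  letI := gW; haveI := hWm; haveI := hWc
  haveI : AlgebraicGeometry.IsReduced C.left := Groth.Agent.H13AlgSp.isReduced_of_smooth_mor C.hom
  refine ⟨W, gW, iW, hWm, hWci, hWs, hWc, hWns, hWn, fun x => ?_⟩
  obtain ⟨q', hq'⟩ := hlift q fun y => fun a ha => mem_vanish.mp ha _ (hqK y)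
  refine ⟨x ≫ ρ, (x ≫ q') ≫ f, ?_⟩
  simp only [Category.assoc, hf]
  rw [show q' ≫ i ≫ c = q ≫ c by rw [← Category.assoc, hq'], ← Category.assoc x q, hq, ← htC]
  rw [MonObj.mul_comp, GrpObj.inv_comp]
  simp only [Category.assoc]
  exact (inv_mul_cancel_right _ _).symm

/-- Homomorphisms from tori to groups without subtorus are trivial. -/
theorem torus_hom_eq_one {T U : Over (Sk k)} [GrpObj T] [GrpObj U] [IsAffine U.left] [Smooth U.hom]
    (hT : Red.IsTorus T) (hU : Red.HasNoSubtorus k U) (f : T ⟶ U) [IsMonHom f] : f = 1 := by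
  haveI : LocallyOfFiniteType U.hom := inferInstance
  obtain ⟨r, e, co, he, -, hprod, -⟩ := exists_cochars T hT
  have hd : ∀ d : Red.Gm (Sk k) ⟶ U, IsMonHom d → d = 1 := fun d hd => by
    haveI := hd
    haveI : ∀ _j : Fin 1, IsMonHom d := fun _ => hd
    obtain ⟨Q, gQ, j, hj, hm, hQ, hfac⟩ := exists_torus (fun _ : Fin 1 => d) (h := fun _ _ s t => by
      show _ * _ = _ * _
      rw [← MonObj.mul_comp, ← MonObj.mul_comp, gm_comm])
    letI := gQ; haveI := hj; haveI := hm
    obtain ⟨q, hq⟩ := hfac 0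
    haveI hiso : IsIso Q.hom := hU Q j hQ
    haveI : Mono Q.hom := inferInstance
    have h1 : q = 1 := Over.OverMorphism.ext ((cancel_mono Q.hom).mp (by rw [Over.w, Over.w]) :
      q.left = (1 : Red.Gm (Sk k) ⟶ Q).left)
    rw [← hq, h1, MonObj.one_comp]
  let φ : (T ⟶ T) →* (T ⟶ U) :=
    { toFun := fun m => m ≫ f, map_one' := MonObj.one_comp f, map_mul' := fun a b => MonObj.mul_comp a b f }
  have h : φ (𝟙 T) = 1 := by
    rw [← hprod, map_list_prod, List.map_ofFn]
    refine List.prod_eq_one fun x hx => ?_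
    obtain ⟨l, rfl⟩ := List.mem_ofFn.mp hx
    haveI := he l
    show (co l ≫ e l) ≫ f = 1
    rw [Category.assoc, hd (e l ≫ f) inferInstance, MonObj.comp_one]
  simpa [φ] using h

omit [IsAffine G.left] [ConnectedSpace G.left] in
/-- Normality of a smooth closed subgroup from the rational points. -/
theorem isNormalHom_of_pts [IsAffine G.left] {N : Over (Sk k)} [GrpObj N] [Smooth N.hom] (i : N ⟶ G) [IsMonHom i]
    [IsClosedImmersion i.left] (h : ∀ (g : Pt G) (n : Pt N), ∃ n' : Pt N, n' ≫ i = g * (n ≫ i) * g⁻¹) :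
    AlgGrp.IsNormalHom i := by
  haveI : IsAffine N.left := isAffine_of_isAffineHom i.left
  haveI : Smooth (G ⊗ N).hom := Groth.Agent.H19Grp.PointsDense.smooth_tensor G N
  haveI : IsAffine (G ⊗ N).left := inferInstanceAs (IsAffine (pullback G.hom N.hom))
  haveI : LocallyOfFiniteType (G ⊗ N).hom := inferInstance
  haveI : AlgebraicGeometry.IsReduced (G ⊗ N).left := Groth.Agent.H13AlgSp.isReduced_of_smooth_mor (G ⊗ N).hom
  obtain ⟨m, hm⟩ := exists_factor_pts i (fst G N * (snd G N ≫ i) * (fst G N)⁻¹) fun y => by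
    obtain ⟨z, hz⟩ := h (y ≫ fst G N) (y ≫ snd G N)
    refine ⟨z, hz.trans ?_⟩
    rw [MonObj.comp_mul, MonObj.comp_mul, GrpObj.comp_inv, Category.assoc]
  intro T' g n
  refine ⟨lift g n ≫ m, ?_⟩
  rw [Category.assoc, hm, MonObj.comp_mul, MonObj.comp_mul, GrpObj.comp_inv, ← Category.assoc, lift_fst, lift_snd]

/-- A connected group without subtorus, normalised by all points, is in every Borel subgroup. -/
theorem mem_borel_of_normal {W : Over (Sk k)} [GrpObj W] [IsAffine W.left] [Smooth W.hom] [ConnectedSpace W.left]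
    (hW : Red.HasNoSubtorus k W) (iW : W ⟶ G) [IsMonHom iW]
    (hn : ∀ (g : Pt G) (w : Pt W), ∃ w' : Pt W, w' ≫ iW = g * (w ≫ iW) * g⁻¹)
    (hclo : ∀ x ∈ clo (postHom iW).range, x ∈ (postHom iW).range)
    {B : Over (Sk k)} [GrpObj B] (iB : B ⟶ G) (hB : Red.IsBorelOver k iB) (w : Pt W) :
    ∃ b : Pt B, b ≫ iB = w ≫ iW := by
  haveI : LocallyOfFiniteType G.hom := inferInstance
  haveI := hB.1
  haveI := isSolvable_pts_of_hasNoSubtorus W hW
  haveI : Group.IsSolvable (postHom iW).range :=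
    Group.isSolvable_of_surjective (f := (postHom iW).rangeRestrict) (MonoidHom.rangeRestrict_surjective _)
  obtain ⟨B₀, gB₀, i₀, h₀, hpts⟩ := exists_isBorelOver_ge (postHom iW).range (isPrime_range iW)
    (Group.isSolvable_of_isSolvable_injective (f := Subgroup.inclusion hclo) (Subgroup.inclusion_injective _))
  letI := gB₀
  obtain ⟨g, f, hf⟩ := Groth.Agent.S3900.result k G B₀ B i₀ iB h₀ hB
  rw [H20Conj.conjBy_eq] at hf
  obtain ⟨w', hw'⟩ := hn g⁻¹ w
  obtain ⟨z, hz⟩ := hpts (w' ≫ iW) ⟨w', rfl⟩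
  refine ⟨z ≫ f.hom, ?_⟩
  rw [Category.assoc, hf, ← Category.assoc, pt_comp_conj, hz, hw', _root_.inv_inv]
  group

omit [IsAlgClosed k] [ConnectedSpace G.left] in
/-- The image of a closed subgroup of points is closed. -/
theorem clo_range_le' {W : Over (Sk k)} [GrpObj W] (iW : W ⟶ G) [IsMonHom iW] [IsClosedImmersion iW.left]
    [IsAlgClosed k] : ∀ x ∈ clo (postHom iW).range, x ∈ (postHom iW).range := fun _ hx => clo_range_le iW hx

set_option maxHeartbeats 2000000 in
/-- **Unipotent normal subgroups of normal subgroups lie in unipotent normal subgroups.** -/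
theorem exists_normal_of_normal
    {N : Over (Sk k)} [GrpObj N] [Smooth N.hom] [ConnectedSpace N.left] (i : N ⟶ G) [IsMonHom i]
    [IsClosedImmersion i.left] (hN : ∀ (g : Pt G) (n : Pt N), ∃ n' : Pt N, n' ≫ i = g * (n ≫ i) * g⁻¹)
    {W : Over (Sk k)} [GrpObj W] [Smooth W.hom] [ConnectedSpace W.left] (iW : W ⟶ N) [IsMonHom iW]
    [IsClosedImmersion iW.left] (hW : Red.HasNoSubtorus k W) (hWn : AlgGrp.IsNormalHom iW) :
    ∃ (M : Over (Sk k)) (_ : GrpObj M) (iM : M ⟶ G) (f : W ⟶ M), IsMonHom iM ∧ IsClosedImmersion iM.left ∧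
      Smooth M.hom ∧ ConnectedSpace M.left ∧ Red.HasNoSubtorus k M ∧ AlgGrp.IsNormalHom iM ∧ QuasiCompact M.hom ∧
      f ≫ iM = iW ≫ i := by
  classical
  haveI : IsAffine N.left := isAffine_of_isAffineHom i.left
  haveI : IsAffine W.left := isAffine_of_isAffineHom iW.left
  haveI : LocallyOfFiniteType N.hom := inferInstance
  haveI : LocallyOfFiniteType G.hom := inferInstance
  haveI : LocallyOfFiniteType W.hom := inferInstance
  haveI : AlgebraicGeometry.IsReduced N.left := Groth.Agent.H13AlgSp.isReduced_of_smooth_mor N.hom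
  haveI : AlgebraicGeometry.IsReduced W.left := Groth.Agent.H13AlgSp.isReduced_of_smooth_mor W.hom
  haveI : Mono i := Over.mono_of_mono_left _
  let c : (Pt G) → (W ⟶ G) := fun g => iW ≫ i ≫ H20Mu.conj g
  haveI : ∀ g, IsMonHom (c g) := fun g => inferInstanceAs (IsMonHom (iW ≫ i ≫ H20Mu.conj g))
  have hc : ∀ g w, w ≫ c g = g⁻¹ * ((w ≫ iW) ≫ i) * g := fun g w => by
    show w ≫ iW ≫ i ≫ H20Mu.conj g = _
    rw [← Category.assoc, ← Category.assoc, pt_comp_conj]
  obtain ⟨B, gB, iB, hB⟩ := exists_isBorelOver (G := N)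
  letI := gB; haveI := hB.1; haveI := hB.2.1
  -- the conjugates, inside `N`
  have hin : ∀ g, ∀ w : Pt W, ∃ b : Pt B, (b ≫ iB) ≫ i = w ≫ c g := fun g w => by
    obtain ⟨cN, hcN⟩ := exists_factor_pts i (c g) fun y => by
      obtain ⟨n, hn⟩ := hN g⁻¹ (y ≫ iW)
      exact ⟨n, by rw [hn, hc, _root_.inv_inv]⟩
    haveI : IsMonHom cN := by
      haveI : IsMonHom (cN ≫ i) := by rw [hcN]; infer_instance
      exact Groth.Agent.H21Diag.isMonHom_of_comp_mono cN i
    haveI : IsClosedImmersion cN.left := by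
      haveI := isIso_conj g
      haveI : IsIso (H20Mu.conj g).left := inferInstanceAs (IsIso ((Over.forget _).map (H20Mu.conj g)))
      haveI : IsClosedImmersion (cN.left ≫ i.left) := by
        rw [← Over.comp_left, hcN]
        show IsClosedImmersion (iW ≫ i ≫ H20Mu.conj g).left
        rw [Over.comp_left, Over.comp_left]; infer_instance
      exact IsClosedImmersion.of_comp cN.left i.left
    obtain ⟨b, hb⟩ := mem_borel_of_normal hW cN (fun n w => by
      obtain ⟨n', hn'⟩ := hN g n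
      obtain ⟨w', hw'⟩ := hWn _ n' w
      refine ⟨w', (cancel_mono i).mp ?_⟩
      rw [Category.assoc, hcN, hc, ← hw', MonObj.mul_comp, MonObj.mul_comp, GrpObj.inv_comp, hn',
        MonObj.mul_comp, MonObj.mul_comp, GrpObj.inv_comp, Category.assoc w cN, hcN, hc]
      group) (clo_range_le' cN) iB hB w
    exact ⟨b, by rw [hb, Category.assoc, hcN]⟩
  let S : (Pt G) → Subgroup (Pt G) := fun g => (postHom (c g)).range
  have hRB : (⨆ g, S g) ≤ (postHom (iB ≫ i)).range := iSup_le fun g => by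
    rintro _ ⟨w, rfl⟩
    obtain ⟨b, hb⟩ := hin g w
    exact ⟨b, by show b ≫ iB ≫ i = w ≫ c g; rw [← Category.assoc, hb]⟩
  have hnorm : ∀ g, ∀ x ∈ ⨆ g, S g, g⁻¹ * x * g ∈ ⨆ g, S g := fun g x hx => by
    have hle : (⨆ g, S g) ≤ (⨆ g, S g).comap (MulAut.conj g⁻¹).toMonoidHom := iSup_le fun g' => by
      rintro _ ⟨w, rfl⟩
      refine le_iSup S (g' * g) ⟨w, ?_⟩
      show w ≫ c (g' * g) = g⁻¹ * (w ≫ c g') * (g⁻¹)⁻¹
      rw [hc, hc]; group
    simpa [MulAut.conj_apply, _root_.mul_assoc] using hle hx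
  haveI : IsClosedImmersion (iB ≫ i).left := by rw [Over.comp_left]; infer_instance
  have hclo : clo (⨆ g, S g) ≤ (postHom (iB ≫ i)).range := fun x hx =>
    clo_range_le (iB ≫ i) fun r hr => hx r (vanish_anti hRB hr)
  obtain ⟨n, hn⟩ := hB.2.2.2.2.1
  haveI : Group.IsSolvable (Pt B) := ⟨n, hn _⟩
  haveI : Group.IsSolvable (postHom (iB ≫ i)).range :=
    Group.isSolvable_of_surjective (f := (postHom (iB ≫ i)).rangeRestrict) (MonoidHom.rangeRestrict_surjective _)
  obtain ⟨M, gM, iM, hMm, hMci, hMs, hMc, hMns, hMn, hMqc, hlift⟩ := exists_normal_generated S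
    (fun g => ⟨W, inferInstance, c g, inferInstance, inferInstance, inferInstance, inferInstance, hW, rfl⟩) hnorm
    (Group.isSolvable_of_isSolvable_injective (f := Subgroup.inclusion hclo) (Subgroup.inclusion_injective _))
  letI := gM; haveI := hMm; haveI := hMc
  obtain ⟨f, hf⟩ := hlift (iW ≫ i) fun w => le_iSup S 1 ⟨w, by
    show w ≫ c 1 = _
    rw [hc, inv_one, _root_.one_mul, _root_.mul_one, Category.assoc]⟩
  exact ⟨M, gM, iM, f, hMm, hMci, hMs, hMc, hMns, hMn, hMqc, hf⟩

/-- **Unipotent normal subgroups of normal subgroups lie in the unipotent radical.** -/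
theorem exists_factor_radical_of_normal {U : Over (Sk k)} [GrpObj U] (u : U ⟶ G) (hU : Par.IsUnipotentRadical u)
    {N : Over (Sk k)} [GrpObj N] [Smooth N.hom] [ConnectedSpace N.left] (i : N ⟶ G) [IsMonHom i]
    [IsClosedImmersion i.left] (hN : ∀ (g : Pt G) (n : Pt N), ∃ n' : Pt N, n' ≫ i = g * (n ≫ i) * g⁻¹)
    {W : Over (Sk k)} [GrpObj W] [Smooth W.hom] [ConnectedSpace W.left] (iW : W ⟶ N) [IsMonHom iW]
    [IsClosedImmersion iW.left] (hW : Red.HasNoSubtorus k W) (hWn : AlgGrp.IsNormalHom iW) :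
    ∃ f : W ⟶ U, f ≫ u = iW ≫ i := by
  obtain ⟨M, gM, iM, f, hMm, hMci, hMs, hMc, hMns, hMn, hMqc, hf⟩ := exists_normal_of_normal i hN iW hW hWn
  letI := gM; haveI := hMm; haveI := hMc
  obtain ⟨f', hf'⟩ := hU.2.2.2.2.2.2 M iM hMci hMn hMs hMqc (geomFibre_props hMns)
  exact ⟨f ≫ f', by rw [Category.assoc, hf', hf]⟩

/-- Surjective homomorphisms preserve the absence of subtori. -/
theorem hasNoSubtorus_of_surjective {U V : Over (Sk k)} [GrpObj U] [GrpObj V] [IsAffine U.left] [Smooth U.hom]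
    [ConnectedSpace U.left] [IsAffine V.left] [Smooth V.hom] [ConnectedSpace V.left]
    (hU : Red.HasNoSubtorus k U) (p : U ⟶ V) [IsMonHom p] [Surjective p.left] : Red.HasNoSubtorus k V := by
  haveI : LocallyOfFiniteType V.hom := inferInstance
  haveI : LocallyOfFiniteType U.hom := inferInstance
  haveI : QuasiCompact U.hom := inferInstance
  haveI : CompactSpace U.left := QuasiCompact.compactSpace_of_compactSpace U.hom
  haveI := isSolvable_pts_of_hasNoSubtorus U hU
  have hs : Function.Surjective (postHom p : (Pt U) →* (Pt V)) := fun y => H20Borel.exists_pt_lift p y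
  refine hasNoSubtorus_of_char (Group.isSolvable_of_surjective hs) fun χ hχ => ?_
  haveI := hχ
  haveI : AlgebraicGeometry.IsReduced V.left := Groth.Agent.H13AlgSp.isReduced_of_smooth_mor V.hom
  haveI : IsAffine (Red.Gm (Sk k)).left := by
    haveI : IsAffine (Red.diag (ULift.{u} ℤ) ℤ).left := inferInstanceAs (IsAffine (Spec _))
    dsimp [Red.Gm, Red.DS, Red.bc]; infer_instance
  haveI : IsSeparated (Red.Gm (Sk k)).hom := inferInstance
  refine hom_ext_pts fun y => ?_
  obtain ⟨x, rfl⟩ := hs y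
  show (x ≫ p) ≫ χ = (x ≫ p) ≫ 1
  rw [Category.assoc, char_eq_one U hU (p ≫ χ), MonObj.comp_one, MonObj.comp_one]

end H19Unip

end
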