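import Groth.Agent.H19Unip.SplitAlg
import Groth.Agent.H19Unip.PerfectAlg
import Groth.Agent.H19Grp.PointsDense
import Groth.Agent.H19Grp.PointsEq
import Groth.Agent.H21Diag.Chev.ConjDense
import Groth.Agent.H21Diag.Chev.RelSelfCentral
import Groth.Agent.H21Diag.MaxTorusBc
import Groth.Agent.LeadTorus.General
import Groth.Agent.H21Split.R2.ChevExist

/-!
Maximal tori over separably closed fields: they generate, and their intersection is central.
-/

set_option autoImplicit false
set_option backward.isDefEq.respectTransparency false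
set_option linter.style.haveILetI false
set_option linter.unusedSectionVars false
set_option synthInstance.maxHeartbeats 400000
set_option maxHeartbeats 4000000

universe u

open CategoryTheory MonoidalCategory CartesianMonoidalCategory MonObj GrpObj AlgebraicGeometry CategoryTheory.Limits
open Groth.Agent Groth.Agent.H27Witt H20Mu H20Conj H20Borel H21Chev Groth.Agent.H21Split TensorProduct

namespace H19Unip

noncomputable section

variable {k : Type u} [Field k]

/-- conjugates of maximal tori by rational points are maximal tori -/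
theorem isMaximalTorus_conj {G T : Over (Sk k)} [GrpObj G] [GrpObj T] [IsAffine G.left] [Smooth G.hom] {iT : T ⟶ G}
    (hT : Red.IsMaximalTorus iT) (w : 𝟙_ (Over (Sk k)) ⟶ G) : Red.IsMaximalTorus (iT ≫ R2.cj w) := by
  obtain ⟨hm, hmo, hTt, hmax⟩ := LeadTorus.isMaxTorus_of_isMaximalTorus_field G hT
  haveI := hm; haveI := hmo
  refine LeadTorus.isMaximalTorus_of_isMaxTorus_field G ⟨inferInstance, inferInstance, hTt, fun T' _ j _ _ f hT' hf => ?_⟩
  exact hmax T' (j ≫ R2.cj w⁻¹) f hT' (by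
    rw [← Category.assoc, hf, Category.assoc, R2.cj_mul, inv_mul_cancel, R2.cj_one, Category.comp_id])

/-- a morphism on a product with a smooth scheme factors through a closed subscheme if it does on rational slices -/
theorem exists_lift_of_slices [IsSepClosed k] {X Y V W : Over (Sk k)} [Smooth Y.hom] (j : W ⟶ V) [IsClosedImmersion j.left]
    (φ : Y ⊗ X ⟶ V) (h : ∀ y : 𝟙_ (Over (Sk k)) ⟶ Y, ∃ w : X ⟶ W, w ≫ j = lift (toUnit X ≫ y) (𝟙 X) ≫ φ) :
    ∃ w, w ≫ j = φ := by
  let Pk : Over (Sk k) := Over.mk (Spec.map (CommRingCat.ofHom (algebraMap k k)))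
  have hPk : Pk.hom = 𝟙 _ := Spec.map_id (CommRingCat.of k)
  let u : 𝟙_ (Over (Sk k)) ⟶ Pk := Over.homMk (𝟙 _) (by rw [hPk]; rfl)
  have hu : toUnit Pk ≫ u = 𝟙 Pk := Over.OverMorphism.ext (by
    have h1 := Over.w (toUnit Pk)
    change (toUnit Pk).left ≫ 𝟙 _ = Pk.hom at h1
    rw [hPk] at h1
    exact h1)
  obtain ⟨P, c, p, hc, hp, huniv⟩ := H19Grp.PointsDense.exists_preimage j φ
  haveI := hc
  haveI : IsIso c := H19Grp.PointsDense.isIso_of_points_factor (K := k) c fun g => by
    obtain ⟨w, hw⟩ := h (u ≫ g)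
    refine huniv _ _ (snd Pk X ≫ w) ?_
    rw [Category.assoc, hw, ← Category.assoc, comp_lift, Category.comp_id, ← Category.assoc (snd Pk X),
      toUnit_unique (snd Pk X ≫ toUnit X) (fst Pk X ≫ toUnit Pk), Category.assoc, ← Category.assoc (toUnit Pk), hu,
      Category.id_comp]
  exact ⟨inv c ≫ p, by rw [Category.assoc, hp, IsIso.inv_hom_id_assoc]⟩

/-- a closed subgroup containing all maximal tori contains all conjugates of a given one, universally -/
theorem exists_conj_lift [IsSepClosed k] {G T H : Over (Sk k)} [GrpObj G] [GrpObj T] [IsAffine G.left]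
    [Smooth G.hom] {iT : T ⟶ G} (hT : Red.IsMaximalTorus iT) (i : H ⟶ G) [IsClosedImmersion i.left]
    (hH : ∀ (T : Over (Sk k)) [GrpObj T] (iT : T ⟶ G), Red.IsMaximalTorus iT → ∃ t : T ⟶ H, t ≫ i = iT)
    {X : Over (Sk k)} (g : X ⟶ G) (t : X ⟶ T) : ∃ h : X ⟶ H, h ≫ i = g * (t ≫ iT) * g⁻¹ := by
  obtain ⟨w, hw⟩ := exists_lift_of_slices i (fst G T * (snd G T ≫ iT) * (fst G T)⁻¹) fun y => by
    obtain ⟨s, hs⟩ := hH T (iT ≫ R2.cj y) (isMaximalTorus_conj hT y)
    refine ⟨s, hs.trans ?_⟩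
    rw [R2.comp_cj, MonObj.comp_mul, MonObj.comp_mul, GrpObj.comp_inv, lift_fst, lift_snd_assoc, Category.id_comp]
  refine ⟨lift g t ≫ w, ?_⟩
  rw [Category.assoc, hw, MonObj.comp_mul, MonObj.comp_mul, GrpObj.comp_inv, lift_fst, lift_snd_assoc]

/-- points killed by all roots after universal conjugation into the torus -/
theorem roots_trivial_of_conj {G : Over (Sk k)} [GrpObj G] (D : Red.SplitRed G)
    {X : Over (Sk k)} (g : X ⟶ D.T)
    (hg : ∀ (X' : Over (Sk k)) (x : X' ⟶ X) (h : X' ⟶ G), ∃ t : X' ⟶ D.T, t ≫ D.i = h⁻¹ * ((x ≫ g) ≫ D.i) * h)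
    (a : D.idx) : g ≫ D.split.hom.hom.hom ≫ Red.chi (Sk k) (D.P.root a) = 1 := by
  refine hom_ext_pt fun R _ r j => ?_
  obtain ⟨χ, hχ⟩ := exists_tPt r D (j ≫ g)
  obtain ⟨t, ht⟩ := hg _ j (uPt r D a (1 : R))
  obtain ⟨χ', hχ'⟩ := exists_tPt r D t
  rw [← hχ', ← hχ] at ht
  set c : R := χ (Multiplicative.ofAdd (D.P.root a)) with hc
  have h1 : tPt r D χ * uPt r D a (1 : R) = uPt r D a c * tPt r D χ := by
    have := tPt_conj r D χ a (1 : R)
    rw [_root_.mul_one] at this
    rw [hc, ← this, inv_mul_cancel_right]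
  rw [← uPt_neg, _root_.mul_assoc, h1, ← _root_.mul_assoc, ← uPt_add] at ht
  -- the root point lies in the torus
  have h2 : uPt r D a (-1 + c) = tPt r D χ' * (tPt r D χ)⁻¹ := by rw [ht, mul_inv_cancel_right]
  letI : Algebra k R := (Spec.preimage r).hom.toAlgebra
  let B' := R ⊗[k] RatFunc k
  let φ : R →ₐ[R] B' := Algebra.ofId R B'
  let ιK : RatFunc k →+* B' := (Algebra.TensorProduct.includeRight : RatFunc k →ₐ[k] B').toRingHom
  let z : B'ˣ := Units.map ιK.toMonoidHom (Units.mk0 (RatFunc.X : RatFunc k) RatFunc.X_ne_zero)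
  have h3 : uPt r D a (φ (-1 + c)) = tPt r D (φ.toRingHom.toMonoidHom.comp χ') * (tPt r D (φ.toRingHom.toMonoidHom.comp χ))⁻¹ := by
    rw [← pmap_uPt, h2, MonObj.comp_mul, GrpObj.comp_inv, pmap_tPt, pmap_tPt]
  have hcomm : Commute (tPt r D (cor D z a)) (uPt r D a (φ (-1 + c))) := by
    rw [h3]
    exact (tPt_commute r D _ _).mul_right ((tPt_commute r D _ _).inv_right)
  have h4 : uPt r D a ((cor D z a) (Multiplicative.ofAdd (D.P.root a)) * φ (-1 + c)) = uPt r D a (φ (-1 + c)) := by
    rw [← tPt_conj, hcomm.eq, mul_inv_cancel_right]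
  have hz : IsUnit ((cor D z a) (Multiplicative.ofAdd (D.P.root a)) - 1) := by
    rw [cor_self]
    have hne : (RatFunc.X : RatFunc k) * RatFunc.X - 1 ≠ 0 := by
      rw [← RatFunc.algebraMap_X, ← map_one (algebraMap (Polynomial k) (RatFunc k)), ← map_mul, ← map_sub]
      refine RatFunc.algebraMap_ne_zero fun h => ?_
      simpa using congrArg (Polynomial.eval 0) h
    have h2 := (isUnit_iff_ne_zero.mpr hne).map ιK
    simpa [z, pow_two] using h2
  have h5 : φ (-1 + c) = 0 := by
    refine hz.mul_left_cancel ?_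
    rw [mul_zero, sub_mul, _root_.one_mul, uPt_injective r D a h4, sub_self]
  have h6 : -1 + c = 0 := (FaithfulSMul.algebraMap_injective R B') (by simpa [φ] using h5)
  have hc1 : c = 1 := by linear_combination h6
  rw [MonObj.comp_one]
  refine H21Rank1.gmFn_injective ?_
  have hχ2 : j ≫ g = ds r χ ≫ D.split.inv.hom.hom := (cancel_mono D.i).mp (by
    rw [← hχ, tPt, Category.assoc])
  rw [← Category.assoc, hχ2, Category.assoc, reassoc_of% split_inv_hom D, H21Rank1.gmFn_one]
  have hv := gmv_chi r χ (D.P.root a)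
  rw [← hc, hc1, gmv, ← map_one (Scheme.ΓSpecIso (CommRingCat.of R)).hom.hom] at hv
  exact (ConcreteCategory.bijective_of_isIso (Scheme.ΓSpecIso (CommRingCat.of R)).hom).1 hv

end

end H19Unip

namespace H19Unip

noncomputable section

/-- a closed subscheme through which the conjugation map of a maximal torus factors is everything -/
theorem isIso_of_conj_closed {K : Type u} [Field K] [IsAlgClosed K] {G T H : Over (Sk K)} [GrpObj G] [GrpObj T]
    [IsAffine G.left] [Smooth G.hom] [ConnectedSpace G.left] (hR : NoUnipotentNormal G) {iT : T ⟶ G}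
    (hT : AGF.IsMaxTorus iT) (i : H ⟶ G) [IsClosedImmersion i.left]
    (w : G ⊗ T ⟶ H) (hw : w ≫ i = fst G T * (snd G T ≫ iT) * (fst G T)⁻¹) : IsIso i := by
  haveI : IsAffine H.left := isAffine_of_isAffineHom i.left
  have hinj := H21Chev.injective_conj_maxTorus hR hT
  rw [← hw, Fn.pull_comp] at hinj
  have hbij : Function.Bijective (Fn.pull i : Fn G →ₐ[K] Fn H) :=
    ⟨Function.Injective.of_comp hinj, (IsClosedImmersion.isAffine_surjective_of_isAffine i.left).2⟩
  obtain ⟨s, hs⟩ := Fn.exists_hom (X := G) (Y := H) (AlgEquiv.ofBijective _ hbij).symm.toAlgHom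
  refine ⟨s, Fn.hom_ext (AlgHom.ext fun a => ?_), Fn.hom_ext (AlgHom.ext fun a => ?_)⟩
  · rw [Fn.pull_comp, hs, Fn.pull_id]
    exact (AlgEquiv.ofBijective _ hbij).apply_symm_apply a
  · rw [Fn.pull_comp, hs, Fn.pull_id]
    exact (AlgEquiv.ofBijective _ hbij).symm_apply_apply a

end

end H19Unip
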